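import Cfsg.Agent.BZ.RT.Defs
import Cfsg.Agent.BZ.RT.Cc.Pure
import Cfsg.Agent.HZ.L.X.Bas
import Cfsg.Agent.OM.Cu.SB
import Cfsg.Agent.OM.Cu.Tr

/-!
# BZ / RT / Cc : classical groups, odd primes (helper27)

`boxClO`.
-/

set_option autoImplicit false
set_option linter.unusedSectionVars false

namespace Cfsg.Agent.BZ.RT

open Cfsg Matrix Cfsg.Agent.DL Cfsg.Agent.DL.PP Cfsg.Agent.KZ.Lie Cfsg.Agent.HZ.L Cfsg.Agent.HZ.L.X Cfsg.Agent.OM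
open Cfsg.Agent.LV.Cl (SG sm sw tt co_single)
open Cfsg.Agent.OM.Cu (Co)
open Cfsg.Agent.OM.Cu.TrL (ev_rect map_mul' ev_smul)

namespace Cc

section Pure

variable {n : ℕ} {κ : Kd} {g h t : SG n} {μ : ℂ} {z : Fin n → ℂ} {b : Vec (Fin n) × Vec (Fin n)} {i : Fin n}

theorem ne_zero (hb : b ∈ std κ (b0 n)) : b.2 ≠ 0 := fun e => by
  have := Cu.SB.two hb
  rw [e, dotProduct_zero] at this
  omega

theorem form (hb : b ∈ std κ (b0 n)) : ∃ t, rfm b = sm t ∧ ((∃ i l e, i ≠ l ∧ t = sw i l e) ∨ ∃ i, t = tt i) := by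
  have h2 : ∀ s : ℤˣ, (s : ℤ) * (2 * s) = 2 := fun s => by rcases Int.units_eq_one_or s with rfl | rfl <;> rfl
  obtain ⟨i, j, h, e, rfl⟩ | ⟨i, j, s, h, e, e', rfl⟩ | ⟨i, s, e, ⟨rfl, rfl⟩ | ⟨rfl, rfl⟩⟩ := hb
  exacts [⟨_, rfm_sub h, .inl ⟨_, _, _, h, rfl⟩⟩, ⟨_, rfm_add h s, .inl ⟨_, _, _, h, rfl⟩⟩, ⟨_, rfm_single i (h2 s), .inr ⟨_, rfl⟩⟩,
    ⟨_, rfm_single i (mul_comm _ (s : ℤ) ▸ h2 s), .inr ⟨_, rfl⟩⟩]

theorem isV_rf (e : rfm b = sm t) (h0 : ev b.1 z = 0) : IsV t 1 z := by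
  have h1 : IsE 1 1 z := by
    unfold IsE
    rw [Matrix.map_one _ Int.cast_zero Int.cast_one, one_mulVec, one_smul]
  have h2 := Cu.isE_rf h1 h0
  rwa [mul_one, e, Cu.SB.isE_sm] at h2

theorem off (hb : b ∈ std κ (b0 n)) (e : rfm b = sm t) (h1 : t.π i = i ∧ t.s i = 1) : b.1 i = 0 := by
  have h2 := sm_single t i 1
  rw [h1.1, h1.2, ← e, rfm_vec, Units.val_one, one_mul, sub_eq_self, dotProduct_single, mul_one] at h2
  exact (smul_eq_zero.1 h2).resolve_right (ne_zero hb)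

/-- no mixed roots -/
theorem mix (hb : b ∈ std κ (b0 n)) {ε : Lb (Fin n)} (h1 : chr b.2 ε = 1) (h2 : ∀ j, ε j = 1 → z j = 0) (h3 : ev b.1 z ≠ 0)
    (hi : ε i = 1) : b.2 i = 0 := by
  have k : ∀ (x : ℂˣ) (s : ℤˣ), x ^ (s : ℤ) = 1 → x = 1 := fun x s e => by
    rw [← zpow_one x, ← Int.units_coe_mul_self s, _root_.zpow_mul, e, _root_.one_zpow]
  obtain ⟨a, s, c, u, e, rfl⟩ | ⟨a, u, v, -, -, rfl⟩ := Cu.SB.cas' hb
  · simp only [Cu.SB.rp, Cu.SB.rv, chr_add, co_single] at h1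
    have h4 : ε a = 1 ↔ ε c = 1 := ⟨fun e => k _ u (by rwa [e, _root_.one_zpow, one_mul] at h1),
      fun e => k _ s (by rwa [e, _root_.one_zpow, mul_one] at h1)⟩
    have h5 : ε a ≠ 1 := fun e => h3 (by
      simp [ev, Cu.SB.rp, Cu.SB.rv, dotProduct, add_mul, Finset.sum_add_distrib, Pi.single_apply, h2 a e, h2 c (h4.1 e)])
    exact Cu.SB.rv_o (fun e => h5 (e ▸ hi)) fun e => h5 (h4.2 (e ▸ hi))
  · refine Pi.single_eq_of_ne (fun e => h3 ?_) _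
    simp [ev, dotProduct, Pi.single_apply, h2 a (e ▸ hi)]

theorem tl_sm {m : ℤ} {η : Lb (Fin n)} : Tl (m • sm g) η η ↔ ∀ j, η (g.π j) ^ (m * g.s j) = η j := by
  have k : ∀ j, chr ((m • sm g) *ᵥ Pi.single j 1) η = η (g.π j) ^ (m * g.s j) := fun j => by
    rw [smul_mulVec, sm_single, chr_zsmul, co_single, ← _root_.zpow_mul, mul_one, mul_comm]
  refine ⟨fun h j => by rw [← k, h, chr_single], fun h v => ?_⟩
  rw [← chr_pl]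
  congr 1
  funext j
  rw [← chr_single j (pl _ _), chr_pl, k, h]

theorem exists_E (l : ℕ) [NeZero l] : ∃ E : ZMod l → ℂˣ, (∀ a, E a = 1 ↔ a = 0) ∧ ∀ (m : ℤ) a, E a ^ m = E (m * a) :=
  ⟨fun a => Circle.toUnits (ZMod.toCircle a), fun a => ⟨fun h => ZMod.injective_toCircle (by
    rw [AddChar.map_zero_eq_one]
    exact Circle.ext (congrArg Units.val h)), fun h => by simp [h]⟩,
    fun m a => by rw [← map_zpow, ← AddChar.map_zsmul_eq_zpow, zsmul_eq_mul]⟩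

theorem part {G : Type} [CommGroup G] {s t : G} {l N i : ℕ} (hl : l.Prime) (h1 : ¬ l ∣ N) (h2 : s ^ N = 1) (h3 : t ^ l ^ i = 1) :
    ∃ k : ℕ, (s * t) ^ k = t := by
  obtain ⟨m, e⟩ := exists_pow_eq_self_of_coprime (x := t) (n := N)
    (Nat.Coprime.coprime_dvd_right (orderOf_dvd_of_pow_eq_one h3) ((hl.coprime_iff_not_dvd.2 h1).symm.pow_right i))
  exact ⟨N * m, by rw [pow_mul, mul_pow, h2, one_mul, e]⟩

end Pure

variable {p : ℕ} [Fact p.Prime] {k : Type} [Field k] [CharP k p] [IsAlgClosed k] {Y : Type} [Group Y] {N : Type}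
  [Fintype N] [DecidableEq N] {ρ : Y →* GL N k} {F : MulAut Y} {G : Subgroup Y} {D : Datum p ρ F G}
  {κ : Kd} {n : ℕ} (Φ : Fw D κ (b0 n) 2)

/-- the matrix `M` acts as the signed permutation `h` -/
structure Rp (M : Mat D.R) (h : SG n) : Prop where
  p : Φ.P * M = sm h * Φ.P
  nm : Nm M (rts D)

/-- a section of the frame -/
structure Sec (U : Matrix D.R (Fin n) ℤ) : Prop where
  pu : Φ.P * U = (4 : ℤ) • 1
  q : ∀ z, U *ᵥ z ∈ Qv (rts D)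

/-- the reflections -/
def Rf (Ψ : RS D.R) : Set (SG n) := {t | ∃ a ∈ Ψ, Rp Φ (rfm a) t}

theorem exists_sec (hn : 2 ≤ n) : ∃ U, Sec Φ U := by
  have : Nontrivial (Fin n) := Fin.nontrivial_iff_two_le.2 hn
  have h : ∀ i : Fin n, (2 : ℤ) • (Pi.single i 1 : Fin n → ℤ) ∈ Qv (std κ (b0 n)) := fun i => by
    obtain ⟨j, e⟩ := exists_ne i
    convert add_mem (Qv.cor (Cu.SB.rp_mem (κ := κ) e.symm 1 1)) (Qv.cor (Cu.SB.rp_mem (κ := κ) e.symm 1 (-1))) using 1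
    simp only [Cu.SB.rp, Cu.SB.rv, Units.val_neg, Units.val_one, Pi.single_neg]
    module
  choose u h1 h2 _ using fun i => Φ.lift (h i)
  have k : ∀ z, (of u)ᵀ *ᵥ z = ∑ i, z i • u i := fun z => by
    ext r
    simp [mulVec, dotProduct, mul_comm]
  refine ⟨(of u)ᵀ, Matrix.ext_of_mulVec_single fun i => ?_, fun z => k z ▸ sum_mem fun i _ => Submodule.smul_mem _ _ (h1 i)⟩
  rw [← mulVec_mulVec, mulVec_single_one, show (of u)ᵀ.col i = u i from rfl, h2, smul_smul, smul_mulVec, one_mulVec]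
  rfl

theorem rp_W (w : D.W) : Rp Φ (D.Wm w) (Φ.emb w) := ⟨Φ.hW w, by
  rintro _ ⟨a, ha, rfl⟩
  exact ⟨_, rt_mem (ha.act w), (D.cor_act w ha).symm, D.wt_act w a⟩⟩

theorem rp_rf (a : rts D) {t : SG n} (e : rfm (Φ.φ a).1 = sm t) : Rp Φ (rfm a.1) t :=
  ⟨e ▸ Φ.P_rfm a, let ⟨w, e⟩ := mem_WW.1 (rfm_mem a.2); e ▸ (rp_W Φ w).nm⟩

variable {Φ} {U : Matrix D.R (Fin n) ℤ} {M M' A : Mat D.R} {g h h' t : SG n} {Ψ : RS D.R} {μ : ℂ}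

theorem Rp.mul (a : Rp Φ M h) (b : Rp Φ M' h') : Rp Φ (M * M') (h * h') :=
  ⟨by rw [← Matrix.mul_assoc, a.p, Matrix.mul_assoc, b.p, map_mul, Matrix.mul_assoc], nm_mul a.nm b.nm⟩

theorem Rp.pow (a : Rp Φ M h) (m : ℕ) : Rp Φ (M ^ m) (h ^ m) := by
  induction m with
  | zero => simpa only [pow_zero, D.Wm_one, map_one] using rp_W Φ 1
  | succ m ih => rw [pow_succ, pow_succ]; exact ih.mul a

theorem Rp.dn (a : Rp Φ M h) {y : D.R → ℂ} (e : IsE M μ y) : IsV h μ (Φ.P.map (Int.cast : ℤ → ℂ) *ᵥ y) := by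
  refine Cu.SB.isE_sm.1 ?_
  unfold IsE at e ⊢
  rw [mulVec_mulVec, ← map_mul', ← a.p, map_mul', ← mulVec_mulVec, e, mulVec_smul]

theorem ev_dn (a : rts D) (y : D.R → ℂ) : ev (Φ.φ a).1.1 (Φ.P.map (Int.cast : ℤ → ℂ) *ᵥ y) = 2 * ev a.1.1 y := by
  rw [ev_rect, Φ.h1]
  simp [ev, dotProduct, Finset.mul_sum, mul_assoc]

theorem Rp.tl {m : ℤ} (a : Rp Φ M h) {e : Lb (Fin n)} (h1 : Tl (m • sm h) e e) : Tl (m • M) (pl Φ.P e) (pl Φ.P e) := fun v => by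
  rw [chr_pl, chr_pl, ← h1 (Φ.P *ᵥ v), mulVec_mulVec, mulVec_mulVec, Matrix.mul_smul, a.p, Matrix.smul_mul]

namespace Sec

variable (S : Sec Φ U)
include S

theorem uniq (a : Rp Φ M h) (b : Rp Φ M h') : h = h' := sm_inj (smul_right_injective _ (four_ne_zero (α := ℤ)) (by
  have := congrArg (· * U) (a.p.symm.trans b.p)
  simpa only [Matrix.mul_assoc, S.pu, Matrix.mul_smul, Matrix.mul_one] using this))

theorem up (a : Rp Φ M h) : M * U = U * sm h := Cu.mat_ext fun v => by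
  rw [← mulVec_mulVec, ← mulVec_mulVec]
  refine Φ.P_ext (Submodule.sub_mem _ (Qv.nm a.nm (S.q _)) (S.q _)) ?_
  simp only [mulVec_mulVec, ← Matrix.mul_assoc, a.p, S.pu]
  rw [Matrix.mul_assoc, S.pu, Matrix.mul_smul, Matrix.smul_mul, Matrix.mul_one, Matrix.one_mul]

theorem cor (a : rts D) : U *ᵥ (Φ.φ a).1.2 = (2 : ℤ) • a.1.2 :=
  Φ.P_ext (Submodule.sub_mem _ (S.q _) (Submodule.smul_mem _ _ (Qv.cor a.2))) (by
    rw [mulVec_mulVec, S.pu, mulVec_smul, Φ.h2, smul_mulVec, one_mulVec, smul_smul]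
    rfl)

theorem isE (a : Rp Φ M h) {z : Fin n → ℂ} (e : IsV h μ z) : IsE M μ (U.map (Int.cast : ℤ → ℂ) *ᵥ z) := by
  have h1 := Cu.SB.isE_sm.2 e
  unfold IsE at h1 ⊢
  rw [mulVec_mulVec, ← map_mul', S.up a, map_mul', ← mulVec_mulVec, h1, mulVec_smul]

theorem ev_up (a : rts D) {z : Fin n → ℂ} (e : ev a.1.1 (U.map (Int.cast : ℤ → ℂ) *ᵥ z) = 0) : ev (Φ.φ a).1.1 z = 0 := by
  have h1 := ev_dn (Φ := Φ) a (U.map (Int.cast : ℤ → ℂ) *ᵥ z)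
  rw [e, mulVec_mulVec, ← map_mul', S.pu, ev_rect, vecMul_smul, vecMul_one, mul_zero] at h1
  simpa [ev, dotProduct, mul_assoc, ← Finset.mul_sum] using h1

theorem tl {m : ℤ} (a : Rp Φ M h) {c : Lb D.R} (h1 : Tl (m • M) c c) : Tl (m • sm h) (pl U c) (pl U c) := fun v => by
  rw [chr_pl, chr_pl, ← h1 (U *ᵥ v), mulVec_mulVec, mulVec_mulVec, Matrix.mul_smul, ← S.up a, Matrix.smul_mul]

theorem rf_eq (a : rts D) (e : Rp Φ (rfm a.1) t) : rfm (Φ.φ a).1 = sm t :=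
  let ⟨_, h1, _⟩ := form (Φ.φ a).2
  S.uniq (rp_rf Φ a h1) e ▸ h1

theorem conj (e : Ψ ⊆ rts D) (a : Rp Φ M h) (h1 : Nm M Ψ) (ht : t ∈ Rf Φ Ψ) : h * t * h⁻¹ ∈ Rf Φ Ψ := by
  obtain ⟨b, hb, h2⟩ := ht
  obtain ⟨b', hb', h3, h4⟩ := h1 b hb
  obtain ⟨u, h5, -⟩ := form (Φ.φ ⟨b', e hb'⟩).2
  have h6 := rp_rf Φ _ h5
  rw [S.uniq (a.mul h2) (Cu.mul_rfm h3 h4 ▸ h6.mul a), mul_inv_cancel_right]
  exact ⟨b', hb', h6⟩

omit S in
theorem ww (e : Ψ ⊆ rts D) (hM : M ∈ WW Ψ) : ∃ h ∈ Subgroup.closure (Rf Φ Ψ), Rp Φ M h := by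
  induction hM using Submonoid.closure_induction with
  | mem _ h =>
    obtain ⟨a, ha, rfl⟩ := h
    obtain ⟨u, h5, -⟩ := form (Φ.φ ⟨a, e ha⟩).2
    exact ⟨u, Subgroup.subset_closure ⟨a, ha, rp_rf Φ _ h5⟩, rp_rf Φ _ h5⟩
  | one => exact ⟨1, one_mem _, by simpa only [D.Wm_one, map_one] using rp_W Φ 1⟩
  | mul _ _ _ _ a b => exact let ⟨_, a1, a2⟩ := a; let ⟨_, b1, b2⟩ := b; ⟨_, mul_mem a1 b1, a2.mul b2⟩

/-- eigenvectors which are moved by a reflection are not central -/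
theorem eig (e : Ψ ⊆ rts D) (a : Rp Φ M h) {z : Fin n → ℂ} (h1 : IsV h μ z) (ht : t ∈ Rf Φ Ψ) (h2 : ¬ IsV t 1 z) : Eig Ψ M μ :=
  let ⟨b, hb, h3⟩ := ht
  ⟨_, S.isE a h1, b, hb, fun h4 => h2 (isV_rf (S.rf_eq ⟨b, e hb⟩ h3) (S.ev_up ⟨b, e hb⟩ h4))⟩

/-- **the roots of the label vanish on the coordinates of the eigenvectors** -/
theorem kill (e : Ψ ⊆ rts D) (hA : Rp Φ A g) (fin : ∃ m, 0 < m ∧ A ^ m = 1) (n1 : Nm A Ψ) (n2 : ∀ a ∈ Ψ, Nm (rfm a) Ψ) {d : ℕ}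
    (hd : 0 < d) {f : Mat D.R → ℂ} (H : Hy0 Ψ A d f) (h0 : f A ≠ 0) (hμ : IsPrimitiveRoot μ d) {i : Fin n} (hi : Ei g μ i)
    {b : rts D} (hb : b.1 ∈ Ψ) : (Φ.φ b).1.1 i = 0 := by
  classical
  have k0 : ∀ w ∈ WW Ψ, ∀ w' ∈ WW Ψ, Φ.P * w = Φ.P * w' → w = w' := fun w h1 w' h2 h3 => by
    obtain ⟨u, rfl⟩ := mem_WW.1 (WW_mono e h1)
    obtain ⟨u', rfl⟩ := mem_WW.1 (WW_mono e h2)
    rw [Φ.eq_of_P h3]
  have k1 : ∀ {M M' h}, Co Ψ A M → Co Ψ A M' → Rp Φ M h → Rp Φ M' h → M = M' := by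
    rintro _ _ h ⟨w, h1, rfl⟩ ⟨w', h2, rfl⟩ h3 h4
    obtain ⟨m, h5, h6⟩ := fin
    have h7 : Φ.P * (w * A) * A ^ (m - 1) = Φ.P * (w' * A) * A ^ (m - 1) := by rw [h3.p, h4.p]
    simp only [Matrix.mul_assoc] at h7
    rw [← pow_succ', Nat.sub_add_cancel h5, h6, Matrix.mul_one, Matrix.mul_one] at h7
    rw [k0 w h1 w' h2 h7]
  let f' : SG n → ℂ := fun h => if k : ∃ M, Co Ψ A M ∧ Rp Φ M h then f k.choose else 0
  have k2 : ∀ {M h}, Co Ψ A M → Rp Φ M h → f' h = f M := fun {M h} h1 h2 => by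
    have h3 : ∃ M, Co Ψ A M ∧ Rp Φ M h := ⟨M, h1, h2⟩
    exact (dif_pos h3).trans (congrArg f (k1 h3.choose_spec.1 h1 h3.choose_spec.2 h2))
  have k3 : ∀ {h}, (¬ ∃ M, Co Ψ A M ∧ Rp Φ M h) → f' h = 0 := fun k => dif_neg k
  have k4 : ∀ t ∈ Rf Φ Ψ, (∃ i l e, i ≠ l ∧ t = sw i l e) ∨ ∃ i, t = tt i := fun t ⟨a, ha, h1⟩ =>
    let ⟨_, h2, h3⟩ := form (Φ.φ ⟨a, e ha⟩).2
    S.uniq (rp_rf Φ _ h2) h1 ▸ h3
  have k5 : ∀ a ∈ Ψ, rfm a * rfm a = 1 := fun a ha => Cu.rfm_sq (rt_two (e ha))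
  have k6 : ∀ {a t}, a ∈ Ψ → Rp Φ (rfm a) t → t * t = 1 := fun ha h1 =>
    S.uniq (h1.mul h1) (by simpa only [k5 _ ha, D.Wm_one, map_one] using rp_W Φ 1)
  let R := (Set.toFinite (Rf Φ Ψ)).toFinset
  have k7 : ∀ {t}, t ∈ R ↔ t ∈ Rf Φ Ψ := Set.Finite.mem_toFinset _
  have H' : Cu R μ f' := by
    refine ⟨hμ.ne_zero hd.ne', fun t ht => k4 t (k7.1 ht), fun t ht u hu => ?_, fun t ht h => ?_, fun h y h1 t ht h2 => ?_,
      fun h y h1 t ht h2 => ?_⟩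
    · obtain ⟨a, ha, h1⟩ := k7.1 ht
      exact k7.2 (S.conj e h1 (n2 a ha) (k7.1 hu))
    · obtain ⟨a, ha, h1⟩ := k7.1 ht
      by_cases h2 : ∃ M, Co Ψ A M ∧ Rp Φ M h
      · obtain ⟨M, h2, h3⟩ := h2
        have h4 := h2.mul_right n1 (rfm_mem ha)
        rw [mul_assoc, k2 (h4.rf ha) (h1.mul (h3.mul h1)), H.cj _ (rfm_mem ha) _ h4, mul_assoc, k5 a ha, mul_one, k2 h2 h3]
      · refine (k3 fun ⟨M, h3, h4⟩ => h2 ⟨_, (h3.mul_right n1 (rfm_mem ha)).rf ha, ?_⟩).trans (k3 h2).symm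
        have h5 := h1.mul (h4.mul h1)
        rwa [mul_assoc (t * h), k6 ha h1, mul_one, ← mul_assoc t, k6 ha h1, one_mul] at h5
    · by_cases h3 : ∃ M, Co Ψ A M ∧ Rp Φ M h
      · obtain ⟨M, h3, h4⟩ := h3
        rw [k2 h3 h4, H.bad M h3 ⟨μ, hμ, S.eig e h4 h1 (k7.1 ht) h2⟩]
      · exact k3 h3
    · by_cases h3 : ∃ M, Co Ψ A M ∧ Rp Φ M h
      · obtain ⟨M, h3, h4⟩ := h3
        have h5 : ∀ x ∈ rfm '' Ψ, ∃ u, Rp Φ x u := by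
          rintro _ ⟨a, ha, rfl⟩
          exact (ww e (rfm_mem ha)).imp fun _ k => k.2
        choose! τ h5 using h5
        rw [← finsum_mem_coe_finset, Set.Finite.coe_toFinset, ← H.rel M h3 ⟨μ, hμ, S.eig e h4 h1 (k7.1 ht) h2⟩]
        refine (finsum_mem_eq_of_bijOn τ ⟨?_, ?_, ?_⟩ ?_).symm
        · rintro _ ⟨a, ha, rfl⟩
          exact ⟨a, ha, h5 _ ⟨a, ha, rfl⟩⟩
        · intro x hx x' hx' h6
          exact k0 x (Submonoid.subset_closure hx) x' (Submonoid.subset_closure hx') ((h5 x hx).p.trans (h6 ▸ (h5 x' hx').p.symm))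
        · rintro u ⟨a, ha, h6⟩
          exact ⟨_, ⟨a, ha, rfl⟩, S.uniq (h5 _ ⟨a, ha, rfl⟩) h6⟩
        · exact fun x hx => (k2 (h3.mul (Submonoid.subset_closure hx)) ((h5 x hx).mul h4)).symm
      · refine Finset.sum_eq_zero fun u hu => k3 fun ⟨M, h4, h5⟩ => ?_
        obtain ⟨a, ha, h6⟩ := k7.1 hu
        have h7 := h6.mul h5
        rw [← mul_assoc u, k6 ha h6, one_mul] at h7
        exact h3 ⟨_, h4.rf ha, h7⟩
  obtain ⟨t, h1, -⟩ := form (Φ.φ b).2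
  exact off (Φ.φ b).2 h1 (H'.kill (fun t ht => k7.2 (S.conj e hA n1 (k7.1 ht))) (k2 (Co.refl Ψ A) hA ▸ h0) hi
    (k7.2 ⟨_, hb, rp_rf Φ b h1⟩))

end Sec

end Cc

variable {p : ℕ} [Fact p.Prime] {k : Type} [Field k] [CharP k p] [IsAlgClosed k] {Y : Type} [Group Y] {N : Type}
  [Fintype N] [DecidableEq N] {ρ : Y →* GL N k} {F : MulAut Y} {G : Subgroup Y} (D : Datum p ρ F G)

open Cc in
/-- **[ClO]** -/
theorem boxClO : BoxClO D := by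
  rintro j B l hq ⟨κ, n, Φ, τ, hn, hT⟩ h2 q d w ΨL V c s H
  have hl := Fact.mk hq.lp
  obtain ⟨U, S⟩ := exists_sec Φ hn
  obtain ⟨e, pq⟩ := H.pq
  have hA : Rp Φ (D.Wm w * B) (Φ.emb w * τ) := ⟨hT.hA w, H.nm⟩
  generalize D.Wm w * B = A at H hA ⊢
  generalize Φ.emb w * τ = g at hA
  have hL : ΨL ⊆ rts D := by
    obtain ⟨lam, e⟩ := H.lev
    exact e ▸ lev_sub _ _
  have q0 : (q : ZMod l) ≠ 0 := fun e => pq.nd ((ZMod.intCast_zmod_eq_zero_iff_dvd q l).1 e)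
  have hd : orderOf (q : ZMod l) = d := pq.oe.trans (pq.odd h2).symm
  have d0 : 0 < d := hd ▸ (isOfFinOrder_iff_pow_eq_one.2 ⟨l - 1, Nat.sub_pos_of_lt hq.lp.one_lt, ZMod.pow_card_sub_one_eq_one q0⟩).orderOf_pos
  obtain ⟨ζ, hζ⟩ : ∃ ζ : ℂ, IsPrimitiveRoot ζ d := ⟨_, Complex.isPrimitiveRoot_exp d d0.ne'⟩
  have hk : ∀ k, ζ ^ k = 1 ↔ (q : ZMod l) ^ k = 1 := fun k => by rw [hζ.pow_eq_one_iff_dvd, ← hd, orderOf_dvd_iff_pow_eq_one]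
  have two : (2 : ZMod l) ≠ 0 := fun e => h2 ((Nat.prime_dvd_prime_iff_eq hq.lp Nat.prime_two).1
    ((ZMod.natCast_eq_zero_iff 2 l).1 (by exact_mod_cast e)))
  obtain ⟨t₀, i, ht, rfl⟩ := H.cs
  obtain ⟨N, hN, hs⟩ := H.od
  obtain ⟨m, hm⟩ := part hq.lp hN hs ht
  have tl0 : ∀ M, Tl M (s * t₀) (s * t₀) → Tl M t₀ t₀ := fun M h => hm ▸ h.pow m
  obtain ⟨k1, x, k2, k3, k4⟩ := core q0 (η := pl U t₀) (m := i) (fun j => by rw [pl, ← map_pow, ht, map_one])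
    (tl_sm.1 (S.tl hA (tl0 _ H.fx))) (T := Rf Φ ΨL) (fun t ht x hx => fix two_ne_zero two (hζ.ne_zero d0.ne') hk
      (fun y hy => by_contra fun h => H.ell ⟨ζ, hζ, S.eig hL hA hy ht h⟩) hx)
    { carrier := {γ | ∃ v ∈ V, Rp Φ v γ}
      one_mem' := ⟨1, one_mem _, by simpa only [D.Wm_one, map_one] using rp_W Φ 1⟩
      mul_mem' := fun ⟨_, a, b⟩ ⟨_, a', b'⟩ => ⟨_, mul_mem a a', b.mul b'⟩ }
    (fun γ ⟨v, hv, a⟩ t ht => S.conj hL a (H.vn v hv).1 ht)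
    (fun γ ⟨v, hv, a⟩ => let ⟨_, h3, h4⟩ := (H.vn v hv).2; let ⟨h, h5, h6⟩ := Sec.ww (Φ := Φ) hL h3
      ⟨h, h5, S.uniq (a.mul hA) (h4 ▸ (h6.mul hA).mul a)⟩)
    (fun γ ⟨v, hv, a⟩ => let ⟨r, h3⟩ := H.vl v hv; let ⟨_, h5, h6⟩ := Sec.ww (Φ := Φ) hL h3
      ⟨r, S.uniq h6 (a.pow _) ▸ h5⟩)
    (fun γ ⟨v, hv, a⟩ => let ⟨_, h3, h4⟩ := H.vc v hv; let ⟨h, h5, h6⟩ := Sec.ww (Φ := Φ) hL h3
      ⟨h, h5, fun j => by simpa only [one_mul] using tl_sm.1 (S.tl (m := 1) (h6.mul a) (by rw [one_smul]; exact tl0 _ h4)) j⟩)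
  obtain ⟨E, E1, E2⟩ := exists_E l
  obtain ⟨t, t0⟩ : ∃ t, t = pl Φ.P fun i => E (x i) := ⟨_, rfl⟩
  have t1 : ∀ {M h} (r : ℤ), Rp Φ M h → IsV h (r : ZMod l) x → Tl (r • M) t t := fun {M h} r a b => t0 ▸ a.tl (tl_sm.2 fun j => by
    rw [E2, Int.cast_mul, mul_right_comm, ← b j, mul_right_comm, ← Int.cast_mul, Int.units_coe_mul_self, Int.cast_one, one_mul])
  have t2 : t ^ l ^ 1 = 1 := funext fun r => by
    rw [t0, Pi.pow_apply, pl, ← map_pow, show (fun i => E (x i)) ^ l ^ 1 = 1 from funext fun i => by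
      rw [Pi.pow_apply, pow_one, ← zpow_natCast, E2, Int.cast_natCast, ZMod.natCast_self, zero_mul, (E1 0).2 rfl, Pi.one_apply], map_one,
      Pi.one_apply]
  have t3 : ∀ v ∈ V, Tl v t t := fun v hv => by
    obtain ⟨u, rfl⟩ := mem_WW.1 (H.vw hv)
    simpa only [one_smul] using t1 1 (rp_W Φ u) (by simpa only [Int.cast_one] using k4 _ ⟨_, hv, rp_W Φ u⟩)
  have t4 : Cen ΨL t := fun b hb => by
    have h3 := t3 _ (H.wv (rfm_mem hb)) b.2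
    rw [rfm_vec, rt_two (hL hb), chr_sub, chr_zsmul, mul_eq_left, inv_eq_one, zpow_ofNat] at h3
    have h4 : chr b.2 t ^ l = 1 := by rw [← map_pow, ← pow_one l, t2, map_one]
    obtain ⟨r, h5⟩ := hq.lp.odd_of_ne_two h2
    rwa [h5, pow_succ, pow_mul, h3, one_pow, one_mul] at h4
  refine ⟨t, ⟨⟨1, t2⟩, t1 q hA k2, t4, t3⟩, False.elim, .inl fun a ha h3 b hb => ?_⟩
  have n1 : Nm A (Zc ΨL (s * t₀)) := fun u hu => by
    obtain ⟨u', h4, h5, h6⟩ := H.nmL u hu.1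
    obtain ⟨r, h7, h8⟩ := H.fin
    refine ⟨u', ⟨h4, ?_⟩, h5, h6⟩
    have h9 : ∀ (o : ℕ) v, chr ((A ^ o) *ᵥ v) (s * t₀) ^ q ^ o = chr v (s * t₀) := fun o => by
      induction o with
      | zero => exact fun v => by rw [pow_zero, pow_zero, one_mulVec, zpow_one]
      | succ o ih =>
        intro v
        rw [pow_succ, pow_succ, ← mulVec_mulVec, _root_.zpow_mul, ih, ← H.fx v, smul_mulVec, chr_zsmul]
    have h10 := h9 1 u.2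
    rw [pow_one, pow_one, h5, hu.2] at h10
    rw [← h9 r, h8, one_mulVec, ← Nat.sub_add_cancel h7, pow_succ', _root_.zpow_mul, h10, _root_.one_zpow]
  have n2 : ∀ u ∈ Zc ΨL (s * t₀), Nm (rfm u) (Zc ΨL (s * t₀)) := fun u hu u' hu' => by
    obtain ⟨u'', h4, h5, h6⟩ := (H.vn _ (H.wv (rfm_mem hu.1))).1 u' hu'.1
    exact ⟨u'', ⟨h4, by rw [← h5, rfm_vec, chr_sub, chr_zsmul, hu.2, hu'.2, _root_.one_zpow, inv_one, mul_one]⟩, h5, h6⟩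
  obtain ⟨f, f1, f2⟩ := H.k1
  obtain ⟨y, y1, -, y2⟩ := H.out ζ hζ a ha.1 h3
  have y3 := hA.dn y1
  have k5 : ∀ j, pl U (t₀ * t) j = 1 ↔ ¬ Ei g (q : ZMod l) j := fun j => by
    have h4 : pl U (t₀ * t) j = pl U t₀ j * E (4 * x j) := by
      rw [← chr_single j (pl U _), chr_pl, map_mul, ← chr_pl, chr_single, t0, chr_pl, mulVec_mulVec, S.pu, smul_mulVec, one_mulVec,
        chr_zsmul, chr_single, E2, Int.cast_ofNat]
    rw [h4]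
    by_cases h5 : pl U t₀ j = 1
    · rw [h5, one_mul, E1, mul_eq_zero_iff_left (by rw [show (4 : ZMod l) = 2 * 2 by norm_num]; exact mul_ne_zero two two),
        ← not_iff_not, not_not]
      exact (k3 j).trans (and_iff_left h5)
    · rw [not_not.1 (mt (k3 j).1 fun e => h5 e.2), mul_zero, (E1 0).2 rfl, mul_one]
      exact iff_of_false h5 (not_not.2 (k1 j h5))
  have k6 : chr (Φ.φ ⟨a, ha.1⟩).1.2 (pl U (t₀ * t)) = 1 := by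
    obtain ⟨r, h4⟩ := part (t := t₀ * t) (i := i + 1) hq.lp hN hs (by
      rw [mul_pow, pow_add, pow_mul, ht, one_pow, one_mul, mul_comm, pow_mul, t2, one_pow])
    rw [chr_pl, S.cor, chr_zsmul, ← h4, map_pow, ← mul_assoc, ha.2, one_pow, _root_.one_zpow]
  rw [← Φ.car ⟨b, hL hb.1⟩ ⟨a, ha.1⟩]
  refine Finset.sum_eq_zero fun j _ => mul_eq_zero.2 ((em (Ei g (q : ZMod l) j)).imp (fun h4 => ?_) fun h4 => ?_)
  · exact S.kill (fun _ h => hL h.1) hA H.fin n1 n2 d0 f1 f2 hζ (h4.tr two (hζ.ne_zero d0.ne') fun k => (hk k).symm)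
      ⟨hb.1, by simpa only [map_mul (chr b.2) _ t, t4 b hb.1, mul_one] using hb.2⟩
  · refine mix (Φ.φ _).2 k6 (fun r h5 => by_contra fun h6 => (k5 r).1 h5 (Ei.tr ⟨_, y3, h6⟩ two_ne_zero q0 hk)) ?_ ((k5 j).2 h4)
    rw [ev_dn]
    exact mul_ne_zero two_ne_zero y2

end Cfsg.Agent.BZ.RT
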